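import Groth.Agent.EquidimFlat.Basic
import Groth.Agent.GeomUnib.FibreDimNhds
import Groth.Agent.GeomUnib.FibreDimSemi
import Groth.Agent.FibreSemi.Basic
import Groth.Agent.LocalDim.Point

/-!
# Fibre dimensions of morphisms of schemes over a field
-/

set_option autoImplicit false

universe u

open CategoryTheory AlgebraicGeometry TopologicalSpace

namespace Groth.Agent.FibreDimVar

open FibreDim (fdim)

variable {k : Type u} [Field k] {X Y : Scheme.{u}}

theorem dim_le_of_forall (q : X ⟶ Spec (CommRingCat.of k)) {S : Set X} (hS : IsClosed S) (c : WithBot ℕ∞)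
    (h : ∀ y ∈ S, fdim q y ≤ c) : topologicalKrullDim ↥S ≤ c := by
  have hsub : Subsingleton ↥(Spec (CommRingCat.of k)) := inferInstanceAs (Subsingleton (PrimeSpectrum k))
  let p : Spec (CommRingCat.of k) := (⟨⊥, Ideal.isPrime_bot⟩ : PrimeSpectrum k)
  have := FibreDim.dim_inter_le q hS isOpen_univ p fun w hw _ _ => h w hw
  rwa [show q.base ⁻¹' {p} = Set.univ from Set.eq_univ_of_forall fun z => Subsingleton.elim (q.base z) p,
    Set.inter_univ, Set.inter_univ] at this

theorem fdim_le_dim (q : X ⟶ Spec (CommRingCat.of k)) {S : Set X} {y : X} (h : closure {y} ⊆ S) :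
    fdim q y ≤ topologicalKrullDim ↥S := by
  rw [EquidimFlat.fdim_eq_closure]
  exact FibreDim.dim_mono h

theorem generic_fibre [IrreducibleSpace X] (q : Y ⟶ Spec (CommRingCat.of k)) [LocallyOfFiniteType q] (f : X ⟶ Y)
    [LocallyOfFiniteType f] (a b : ℕ) (ha : topologicalKrullDim X = a)
    (hb : topologicalKrullDim (closure (Set.range f.base)) = b) :
    (∀ x : X, ((a - b : ℕ) : WithBot ℕ∞) ≤ FlatMor.fibreDimAt f x) ∧
      IsOpen {x : X | FlatMor.fibreDimAt f x = (a - b : ℕ)} ∧ Dense {x : X | FlatMor.fibreDimAt f x = (a - b : ℕ)} := by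
  set η := genericPoint X
  obtain ⟨a', b', c', ha', hb', hc', hsum⟩ := EquidimFlat.fdim_comp f q η
  have hcl : closure ({f η} : Set Y) = closure (Set.range f.base) := by
    have h := (genericPoint_spec X).image f.continuous
    rw [Set.image_univ] at h
    exact h
  have hb2 : a' = b := by
    rw [EquidimFlat.fdim_eq_closure, hcl, hb] at ha'
    exact (Nat.cast_inj.mp ha').symm
  have hc2 : c' = a := by
    rw [EquidimFlat.fdim_eq_closure, show closure ({η} : Set X) = Set.univ from genericPoint_spec X,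
      FibreDim.dim_homeo (Homeomorph.Set.univ _), ha] at hc'
    exact (Nat.cast_inj.mp hc').symm
  have hη : FlatMor.fibreDimAt f η = ((a - b : ℕ) : WithBot ℕ∞) := by
    obtain ⟨n, hn, ⟨w, hwf, hwη, hw⟩, -⟩ := FibreDim.exists_fibreDimAt_eq f η
    obtain rfl : w = η := Inseparable.eq (inseparable_iff_specializes_and.mpr ⟨hwη, genericPoint_specializes w⟩)
    rw [hn, ← hw, hb']
    exact congrArg _ (by omega)
  have hlow : ∀ x : X, ((a - b : ℕ) : WithBot ℕ∞) ≤ FlatMor.fibreDimAt f x := fun x => by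
    obtain ⟨O, hxO, hO⟩ := GeomUnib.exists_nhds_fibreDimAt_le f x
    exact hη ▸ hO η ((genericPoint_specializes x).mem_open O.2 hxO)
  have heq : {x : X | FlatMor.fibreDimAt f x = (a - b : ℕ)} = {x : X | FlatMor.fibreDimAt f x ≤ (a - b : ℕ)} :=
    Set.ext fun x => ⟨fun h => h.le, fun h => le_antisymm h (hlow x)⟩
  have hopen : IsOpen {x : X | FlatMor.fibreDimAt f x = (a - b : ℕ)} := heq ▸ FibreSemi.isOpen_le f _
  exact ⟨hlow, hopen, hopen.dense ⟨η, hη⟩⟩

theorem exists_specializes_of_mem_closure_image (π : X ⟶ Y) [CompactSpace X] [IsLocallyNoetherian X]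
    {Z : Set X} (hZ : IsClosed Z) {y : Y} (hy : y ∈ closure (π.base '' Z)) :
    ∃ ζ ∈ Z, π.base ζ ⤳ y := by
  haveI : IsNoetherian X := {}
  obtain ⟨S, hSf, hSc, hSi, hZeq⟩ := NoetherianSpace.exists_finite_set_isClosed_irreducible hZ
  rw [hZeq, Set.sUnion_eq_biUnion, Set.image_iUnion₂, hSf.closure_biUnion] at hy
  simp only [Set.mem_iUnion] at hy
  obtain ⟨T, hT, hyT⟩ := hy
  obtain ⟨ζ, hζ⟩ := QuasiSober.sober (hSi T hT) (hSc T hT)
  refine ⟨ζ, ?_, specializes_iff_mem_closure.mpr ?_⟩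
  · rw [hZeq]; exact ⟨T, hT, hζ.mem⟩
  · rw [show closure ({π.base ζ} : Set Y) = closure (π.base '' T) from hζ.image π.continuous]
    exact hyT

theorem dim_le_iff (q : Y ⟶ Spec (CommRingCat.of k)) (π : X ⟶ Y) [LocallyOfFiniteType q] [LocallyOfFiniteType π]
    [CompactSpace X] (n : ℕ) :
    topologicalKrullDim X ≤ n ↔
      ∀ j : ℕ, topologicalKrullDim (closure {x : Y | (j : WithBot ℕ∞) ≤ topologicalKrullDim (π.fiber x)}) +
        (j : WithBot ℕ∞) ≤ n := by
  haveI : IsLocallyNoetherian X := LocallyOfFiniteType.isLocallyNoetherian (π ≫ q)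
  constructor
  · intro h j
    set B := {x : Y | (j : WithBot ℕ∞) ≤ topologicalKrullDim (π.fiber x)}
    have hpt : ∀ y ∈ closure B, ∃ a : ℕ, fdim q y ≤ a ∧ a + j ≤ n := by
      intro y hy
      rw [show B = π.base '' {x | (j : WithBot ℕ∞) ≤ FlatMor.fibreDimAt π x} from GeomUnib.FibreDimNhds.setOf_le_dim_eq_image π j] at hy
      obtain ⟨ζ, hζ, hζy⟩ := exists_specializes_of_mem_closure_image π (GeomUnib.FibreDimNhds.isClosed_le_fibreDimAt π j) hy
      obtain ⟨m, hm, ⟨w, hwf, -, hw⟩, -⟩ := FibreDim.exists_fibreDimAt_eq π ζ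
      obtain ⟨a, b, c, ha, hb, hc, hsum⟩ := EquidimFlat.fdim_comp π q w
      have hcn : c ≤ n := Nat.cast_le.mp <| hc ▸ (fdim_le_dim (π ≫ q) (Set.subset_univ _)).trans
        ((FibreDim.dim_homeo (Homeomorph.Set.univ _)).trans_le h)
      have hjm : j ≤ m := Nat.cast_le.mp ((show (j : WithBot ℕ∞) ≤ FlatMor.fibreDimAt π ζ from hζ).trans_eq hm)
      rw [hw, Nat.cast_inj] at hb
      refine ⟨a, ?_, by omega⟩
      rw [← ha, hwf]
      refine fdim_le_dim (S := closure {π.base ζ}) q ?_ |>.trans_eq (EquidimFlat.fdim_eq_closure q _).symm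
      exact closure_minimal (Set.singleton_subset_iff.mpr hζy.mem_closure) isClosed_closure
    by_cases hjn : j ≤ n
    · have hle : topologicalKrullDim (closure B) ≤ ((n - j : ℕ) : WithBot ℕ∞) :=
        dim_le_of_forall q isClosed_closure _ fun y hy => by
          obtain ⟨a, ha, han⟩ := hpt y hy
          exact ha.trans (Nat.cast_le.mpr (by omega))
      refine (add_le_add hle le_rfl).trans ?_
      rw [← Nat.cast_add, Nat.cast_le]
      omega
    · have hB : closure B = ∅ := Set.eq_empty_of_forall_notMem fun y hy => by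
        obtain ⟨a, -, han⟩ := hpt y hy
        omega
      haveI : IsEmpty ↥(closure B) := by rw [hB]; infer_instance
      haveI : IsEmpty (IrreducibleCloseds ↥(closure B)) := ⟨fun Z => isEmptyElim Z.2.nonempty.some⟩
      rw [topologicalKrullDim, Order.krullDim_eq_bot, WithBot.bot_add]
      exact bot_le
  · intro h
    rw [← FibreDim.dim_homeo (Homeomorph.Set.univ ↥X)]
    refine dim_le_of_forall (π ≫ q) isClosed_univ _ fun c _ => ?_
    obtain ⟨a, j, c', ha, hb, hc, hsum⟩ := EquidimFlat.fdim_comp π q c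
    have hx : π.base c ∈ {x : Y | (j : WithBot ℕ∞) ≤ topologicalKrullDim (π.fiber x)} :=
      hb ▸ GeomUnib.FibreDimNhds.fdim_le_dim_fibre π c rfl
    have h1 : (a : WithBot ℕ∞) ≤ topologicalKrullDim (closure {x : Y | (j : WithBot ℕ∞) ≤ topologicalKrullDim (π.fiber x)}) :=
      ha ▸ fdim_le_dim q (closure_mono (Set.singleton_subset_iff.mpr hx))
    rw [hc, hsum, Nat.cast_add]
    exact (add_le_add h1 le_rfl).trans (h j)

end Groth.Agent.FibreDimVar
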